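import Cfsg.Agent.H35.ExcIdx

/-!
# The order of a parabolic subgroup: one step given by a table of weights (hub H9, helper134)

`card_PJ_tab` : `|P_J| = (∑ y ^ e) |P_{J \ {k}}|`, the sum over the orbit of the fundamental weight of `k` under `W_J`, given as a
list of pairs (weight, length).
-/

set_option autoImplicit false
set_option linter.unusedSectionVars false

namespace Cfsg.Agent.H134.StrP

open CoxeterSystem Cfsg.Agent.ChevalleyStructure.CoxeterGeom Cfsg.Agent.Tits.Roots Cfsg.Agent.Tits.Core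
  Cfsg.Agent.Tits.RootComb Cfsg.Agent.Nodes.Comb Cfsg.Agent.Nodes.Reps Cfsg.Agent.Nodes.BNOf
  Cfsg.Agent.Nodes.StabComb Cfsg.Agent.Nodes.Bruhat Cfsg.Agent.Nodes.LeviDec Cfsg.Agent.H35.Poin
  Cfsg.Agent.H35.PoinNum Cfsg.Agent.ChevalleyStructure.WeylAbstract Cfsg.Agent.H35.ExcIdx

/-- the reflection on weights -/
def wact {ι : Type*} (A : ι → ι → ℤ) (i : ι) (m : ι → ℤ) : ι → ℤ := fun k => m k - m i * A i k

/-- `L` lists the orbit of the fundamental weight of `k` under `W_J`, with the lengths of the shortest elements -/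
structure Tab {ι : Type*} [DecidableEq ι] (A : ι → ι → ℤ) (J : List ι) (k : ι) (L : List ((ι → ℤ) × ℕ)) : Prop where
  ne : 0 < L.length
  head : L.getD 0 (0, 0) = (Pi.single k 1, 0)
  reach : ∀ t < L.length, 0 < t → ∃ s < t, ∃ i ∈ J, 0 < (L.getD s (0, 0)).1 i ∧
    L.getD t (0, 0) = (wact A i (L.getD s (0, 0)).1, (L.getD s (0, 0)).2 + 1)
  closed : ∀ t < L.length, ∀ j ∈ J, ∃ s < L.length, (L.getD s (0, 0)).1 = wact A j (L.getD t (0, 0)).1
  nodup : (L.map Prod.fst).Nodup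

/-- the check of `Tab` -/
def tabOK {ι : Type*} [Fintype ι] [DecidableEq ι] (A : ι → ι → ℤ) (J : List ι) (k : ι) (L : List ((ι → ℤ) × ℕ)) : Bool :=
  decide (0 < L.length) && decide (L.getD 0 (0, 0) = (Pi.single k 1, 0)) &&
    ((List.range L.length).all fun t => t == 0 || (List.range t).any fun s => J.any fun i =>
      decide (0 < (L.getD s (0, 0)).1 i) && decide (L.getD t (0, 0) = (wact A i (L.getD s (0, 0)).1, (L.getD s (0, 0)).2 + 1)))
    && ((List.range L.length).all fun t => J.all fun j => (List.range L.length).any fun s =>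
      decide ((L.getD s (0, 0)).1 = wact A j (L.getD t (0, 0)).1)) && decide (L.map Prod.fst).Nodup

theorem Tab.of_check {ι : Type*} [Fintype ι] [DecidableEq ι] {A : ι → ι → ℤ} {J : List ι} {k : ι}
    {L : List ((ι → ℤ) × ℕ)} (h : tabOK A J k L = true) : Tab A J k L := by
  unfold tabOK at h
  simp only [Bool.and_eq_true, decide_eq_true_eq, List.all_eq_true, List.any_eq_true, List.mem_range, Bool.or_eq_true,
    beq_iff_eq] at h
  obtain ⟨⟨⟨⟨h1, h2⟩, h3⟩, h4⟩, h5⟩ := h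
  refine ⟨h1, h2, fun t ht h0 => ?_, fun t ht j hj => ?_, h5⟩
  · rcases h3 t ht with h6 | h6
    · omega
    · exact h6
  · exact h4 t ht j hj

section Orbit

variable {ι Φ : Type*} [Fintype ι] [DecidableEq ι] (R : RData ι Φ)

theorem sum_tab [Finite Φ] [Fintype Φ] (x : Φ → ℕ) (hx : ∀ i r, x (R.refl i r) = x r)
    (hxn : ∀ r, x (R.neg r) = x r) {J : List ι} {k : ι} {L : List ((ι → ℤ) × ℕ)} (hL : Tab R.A J k L) {y : ℕ}
    (hy : ∀ i ∈ J, x (R.simple i) = y) :
    ∑ᶠ w ∈ (R.W {j | j ∈ J} : Set (Equiv.Perm Φ)), R.Q x w =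
      (L.map fun e => y ^ e.2).sum * ∑ᶠ v ∈ (R.W ({j | j ∈ J} \ {k}) : Set (Equiv.Perm Φ)), R.Q x v := by
  classical
  have hmem : ∀ μ : ι → ℤ, μ ∈ (L.map Prod.fst).toFinset ↔ ∃ t < L.length, (L.getD t (0, 0)).1 = μ := by
    intro μ
    rw [List.mem_toFinset, List.mem_map]
    constructor
    · rintro ⟨e, he, rfl⟩
      obtain ⟨t, ht, rfl⟩ := List.getElem_of_mem he
      exact ⟨t, ht, by rw [List.getD_eq_getElem _ _ ht]⟩
    · rintro ⟨t, ht, rfl⟩
      refine ⟨L[t], List.getElem_mem ht, by rw [List.getD_eq_getElem _ _ ht]⟩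
  have hall : ∀ t, t < L.length → R.Reach {j | j ∈ J} k (L.getD t (0, 0)).1 ∧
      R.Qw x (L.getD t (0, 0)).1 = y ^ (L.getD t (0, 0)).2 := by
    intro t
    induction t using Nat.strong_induction_on with
    | _ t ih =>
      intro ht
      rcases Nat.eq_zero_or_pos t with rfl | h0
      · rw [hL.head]
        exact ⟨RData.Reach.base, by rw [Qw_single R x, pow_zero]⟩
      · obtain ⟨s, hs, i, hi, h1, h2⟩ := hL.reach t ht h0
        obtain ⟨h3, h4⟩ := ih s hs (by omega)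
        rw [h2]
        refine ⟨RData.Reach.step _ _ hi h3, ?_⟩
        show R.Qw x (R.act i _) = _
        rw [Qw_act R x hx _ _ h1, h4, hy i hi, pow_succ, mul_comm]
  rw [R.sum_step x hx hxn (J := {j | j ∈ J}) (k := k) (L.map Prod.fst).toFinset]
  · congr 1
    rw [List.sum_toFinset _ hL.nodup, List.map_map]
    refine congrArg List.sum ?_
    refine List.map_congr_left fun e he => ?_
    obtain ⟨t, ht, rfl⟩ := List.getElem_of_mem he
    have h1 := (hall t ht).2
    rw [List.getD_eq_getElem _ _ ht] at h1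
    exact h1
  · rw [hmem]
    exact ⟨0, hL.ne, by rw [hL.head]⟩
  · intro μ hμ j hj
    obtain ⟨t, ht, rfl⟩ := (hmem μ).1 hμ
    obtain ⟨s, hs, e⟩ := hL.closed t ht j hj
    exact (hmem _).2 ⟨s, hs, e⟩
  · intro μ hμ
    obtain ⟨t, ht, rfl⟩ := (hmem μ).1 hμ
    exact (hall t ht).1

end Orbit

section Par

variable {I W Y : Type*} [Fintype I] [DecidableEq I] [Group W] [Group Y] {M : CoxeterMatrix I}
  {cs : CoxeterSystem M W} {A : I → I → ℤ} {h : IsCartan M A} {p : ℕ} {T : Subgroup Y} {n : I → Y}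
  {X : (I → ℤ) → Subgroup Y} (R : RGD cs h p T n X)

include R

/-- **The order of a parabolic subgroup**, one step. -/
theorem card_PJ_tab [Finite W] [Finite Y] {J : List I} {k : I} {L : List ((I → ℤ) × ℕ)} (hL : Tab A J k L) {y : ℕ}
    (hy : ∀ i ∈ J, Nat.card (X (sr i)) = y) :
    Nat.card ↥(PJ cs h T X {j | j ∈ J}) = (L.map fun e => y ^ e.2).sum *
      Nat.card ↥(PJ cs h T X ({j | j ∈ J} \ {k})) := by
  classical
  have : Finite (Rt cs h) := finite_rt cs h
  have : Fintype (Rt cs h) := Fintype.ofFinite _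
  rw [card_PJ_sum R, card_PJ_sum R, sum_tab (rdata cs h) (fun r => Nat.card (X r.1)) ?_ ?_ hL hy]
  · ring
  · intro i r
    exact Cfsg.Agent.Nodes.CardSup.card_X_rep R _ r.2
  · intro r
    exact card_X_neg R r.2

theorem card_tab_step [Finite W] [Finite Y] {J J' : List I} {k : I} {L : List ((I → ℤ) × ℕ)} (hL : Tab A J k L) {y : ℕ}
    (hy : ∀ i ∈ J, Nat.card (X (sr i)) = y) (hJ' : ∀ j, j ∈ J' ↔ j ∈ J ∧ j ≠ k) {N : ℕ}
    (hN : Nat.card ↥(PJ cs h T X {j | j ∈ J'}) = N * Nat.card ↥(RGD.B cs h T X)) :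
    Nat.card ↥(PJ cs h T X {j | j ∈ J}) = (L.map fun e => y ^ e.2).sum * N * Nat.card ↥(RGD.B cs h T X) := by
  rw [card_PJ_tab R hL hy, mul_assoc, ← hN]
  have h1 : ({j | j ∈ J} \ {k} : Set I) = {j | j ∈ J'} := by
    ext j
    simp only [Set.mem_sdiff, Set.mem_ofPred_eq, Set.mem_singleton_iff]
    exact (hJ' j).symm
  rw [h1]

end Par

end Cfsg.Agent.H134.StrP
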