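import Cfsg.Agent.H134.StrP.Two
import Cfsg.Agent.H134.StrP.Tab
import Cfsg.Agent.S1054

/-!
# Exceptional groups over `F₂` and strongly `p`-embedded subgroups: common part (hub H9, helper134)

* `TT_eq_bot` : the torus is trivial;
* `noSP_split` : `noSP_of_two` for `F₄(2)`, `E₆(2)`, `E₇(2)`, `E₈(2)`.
-/

set_option autoImplicit false
set_option linter.unusedSectionVars false

namespace Cfsg.Agent.H134.StrP

open Cfsg CoxeterSystem Cfsg.Agent.ChevalleyStructure.CoxeterGeom Cfsg.Agent.Tits.Roots Cfsg.Agent.Tits.Core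
  Cfsg.Agent.Tits.RootComb Cfsg.Agent.Tits.Exchange Cfsg.Agent.Nodes.Reps Cfsg.Agent.Nodes.BNOf
  Cfsg.Agent.Nodes.StabComb Cfsg.Agent.Nodes.Bruhat Cfsg.Agent.Nodes.OppDec Cfsg.Agent.Nodes.LeviDec
  Cfsg.Agent.KFacts.RgdPar Cfsg.Agent.KFacts.RgdCharP Cfsg.Agent.KFacts.RgdFilt Cfsg.Agent.H818.StrP
  Cfsg.Agent.H35.ExcIdx Cfsg.Agent.ChevalleyStructure Cfsg.Agent.ChevalleyStructure.CoxeterGeomTypes
  Cfsg.Agent.Nodes.RGDChev Cfsg.Lie

variable {K : Type} [Field K] [Fintype K]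

theorem charP_two (hK : Fintype.card K = 2) : CharP K 2 := by
  obtain ⟨p, hp⟩ := CharP.exists K
  have : Fact p.Prime := ⟨CharP.char_is_prime K p⟩
  obtain ⟨n, -, h⟩ := FiniteField.card K p
  rw [hK] at h
  have h1 : p ∣ 2 := by rw [h]; exact dvd_pow_self p n.pos.ne'
  have h2 : p = 2 := (Nat.prime_dvd_prime_iff_eq this.out Nat.prime_two).1 h1
  exact h2 ▸ hp

/-- the torus over `F₂` is trivial -/
theorem TT_eq_bot {D : ChevalleyDatum} {l : ℕ} {M : CoxeterMatrix (Fin l)} (hp : IsType D l M) {d : ℕ}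
    (h : d * Nat.card (D.diagonalSubgroup K) = (2 - 1) ^ D.rank) : TT D K = ⊥ := by
  rw [show 2 - 1 = 1 from rfl, one_pow] at h
  have h1 : Nat.card (TT D K) = 1 := by
    rw [Nat.card_congr (Subgroup.subgroupOfEquivOfLe (Elts.diagonal_le_group hp.inList K)).toEquiv]
    exact Nat.eq_one_of_mul_eq_one_left h
  exact Subgroup.card_eq_one.1 h1

/-- the datum of an exceptional group over `F₂` -/
structure Ex2 (D : ChevalleyDatum) (l : ℕ) (M : CoxeterMatrix (Fin l)) (K : Type) [Field K] [Fintype K] : Prop where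
  ty : IsType D l M
  card : Fintype.card K = 2
  tor : TT D K = ⊥
  simple : IsSimpleGroup ↥(D.group K)
  nc : ¬ IsMulCommutative ↥(D.group K)
  filt : HasFilt 2 ↥(D.group K)

theorem Ex2.E6 (hK : Fintype.card K = 2) : Ex2 chevE6 6 CoxeterMatrix.E₆ K where
  ty := hpE6
  card := hK
  tor := TT_eq_bot hpE6 (d := Nat.gcd 3 (2 - 1)) (Cfsg.Agent.S1035.result hK (chevE6, Nat.gcd 3 (2 - 1)) (by simp))
  simple := (Cfsg.Agent.S1054.result (F := K) chevE6 (by simp)).1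
  nc := (Cfsg.Agent.S1054.result (F := K) chevE6 (by simp)).2
  filt := by
    have := charP_two hK
    exact KFacts.RgdLieCharP.hasFilt_of_lie (Or.inr (Or.inr (Or.inr (Or.inr (Or.inr (Or.inr (Or.inl
      ⟨K, inferInstance, inferInstance, inferInstance, Or.inr (Or.inr (Or.inl ⟨MulEquiv.refl _⟩))⟩)))))))

theorem Ex2.E7 (hK : Fintype.card K = 2) : Ex2 chevE7 7 CoxeterMatrix.E₇ K where
  ty := hpE7
  card := hK
  tor := TT_eq_bot hpE7 (d := Nat.gcd 2 (2 - 1)) (Cfsg.Agent.S1035.result hK (chevE7, Nat.gcd 2 (2 - 1)) (by simp))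
  simple := (Cfsg.Agent.S1054.result (F := K) chevE7 (by simp)).1
  nc := (Cfsg.Agent.S1054.result (F := K) chevE7 (by simp)).2
  filt := by
    have := charP_two hK
    exact KFacts.RgdLieCharP.hasFilt_of_lie (Or.inr (Or.inr (Or.inr (Or.inr (Or.inr (Or.inr (Or.inl
      ⟨K, inferInstance, inferInstance, inferInstance, Or.inr (Or.inr (Or.inr (Or.inl ⟨MulEquiv.refl _⟩)))⟩)))))))

theorem Ex2.E8 (hK : Fintype.card K = 2) : Ex2 chevE8 8 CoxeterMatrix.E₈ K where
  ty := hpE8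
  card := hK
  tor := TT_eq_bot hpE8 (d := 1) (Cfsg.Agent.S1035.result hK (chevE8, 1) (by simp))
  simple := (Cfsg.Agent.S1054.result (F := K) chevE8 (by simp)).1
  nc := (Cfsg.Agent.S1054.result (F := K) chevE8 (by simp)).2
  filt := by
    have := charP_two hK
    exact KFacts.RgdLieCharP.hasFilt_of_lie (Or.inr (Or.inr (Or.inr (Or.inr (Or.inr (Or.inr (Or.inl
      ⟨K, inferInstance, inferInstance, inferInstance, Or.inr (Or.inr (Or.inr (Or.inr ⟨MulEquiv.refl _⟩)))⟩)))))))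

variable {D : ChevalleyDatum} {l : ℕ} {M : CoxeterMatrix (Fin l)}

namespace Ex2

variable (h : Ex2 D l M K)

include h

theorem rgdK : RGD M.toCoxeterSystem h.ty.isCartan 2 (TT D K)
    (fun i => (⟨nn h.ty K i, nn_mem_group h.ty i⟩ : ↥(D.group K))) (XX D l K) := by
  have := charP_two h.card
  exact rgd (K := K) h.ty M.toCoxeterSystem 2

theorem size (i : Fin l) : Nat.card (XX D l K (sr i)) = 2 := by
  rw [card_XX h.ty K M.toCoxeterSystem (isRoot_sr _ _ i), Nat.card_eq_fintype_card, h.card]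

theorem nonab : ∃ a b : ↥(D.group K), a * b ≠ b * a := by
  by_contra hcon
  push Not at hcon
  exact h.nc ⟨⟨hcon⟩⟩

/-- `|P_J| = N |B|` -/
def PCard (D : ChevalleyDatum) (l : ℕ) (M : CoxeterMatrix (Fin l)) (K : Type) [Field K] (hty : IsType D l M)
    (J : List (Fin l)) (N : ℕ) : Prop :=
  Nat.card ↥(PJ M.toCoxeterSystem hty.isCartan (TT D K) (XX D l K) {j | j ∈ J}) =
    N * Nat.card ↥(RGD.B M.toCoxeterSystem hty.isCartan (TT D K) (XX D l K))

theorem pcard_nil : PCard D l M K h.ty [] 1 := by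
  have := finite_W h.ty M.toCoxeterSystem
  exact card_nil h.rgdK

theorem pcard_path {L C L' : List (Fin l)} {i0 : Fin l} (hP : PathOK M L C L' i0) {N : ℕ}
    (hN : PCard D l M K h.ty L' N) : PCard D l M K h.ty L (FA C.length 2 * N) := by
  have := finite_W h.ty M.toCoxeterSystem
  exact card_step h.rgdK hP (fun i _ => h.size i) hN

theorem pcard_tab {J J' : List (Fin l)} {k : Fin l} {L : List ((Fin l → ℤ) × ℕ)} (hL : Tab (cartanOf D l) J k L)
    (hJ' : ∀ j, j ∈ J' ↔ j ∈ J ∧ j ≠ k) {N : ℕ} (hN : PCard D l M K h.ty J' N) :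
    PCard D l M K h.ty J ((L.map fun e => 2 ^ e.2).sum * N) := by
  have := finite_W h.ty M.toCoxeterSystem
  exact card_tab_step h.rgdK hL (fun i _ => h.size i) hJ' hN

/-- **Two orthogonal sets of nodes.** -/
theorem noSP {p : ℕ} [hp : Fact p.Prime] (hp2 : p ≠ 2) {J₁ J₂ : List (Fin l)} {N₁ N₂ : ℕ}
    (h1 : PCard D l M K h.ty J₁ N₁) (h2 : PCard D l M K h.ty J₂ N₂) (hM : (J₁.all fun i => J₂.all fun j => decide (M i j = 2)) = true)
    (hk : ∃ k, k ∉ J₁ ∧ k ∉ J₂) (hd1 : p ∣ N₁) (hd2 : p ∣ N₂) : NoSP p ↥(D.group K) := by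
  have := finite_W h.ty M.toCoxeterSystem
  have := h.simple
  have : Fact (Nat.Prime 2) := ⟨Nat.prime_two⟩
  obtain ⟨k, hk1, hk2⟩ := hk
  exact noSP_of_two h.rgdK h.filt h.nonab hp2 h.tor Cfsg.Agent.Tits.Ext.simple_injective
    (J₁ := {j | j ∈ J₁}) (J₂ := {j | j ∈ J₂}) (J := {j | j ∈ J₁} ∪ {j | j ∈ J₂}) Set.subset_union_left
    Set.subset_union_right ⟨k, fun h3 => h3.elim hk1 hk2⟩ (fun i hi j hj => by
      simp only [List.all_eq_true, decide_eq_true_eq] at hM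
      exact hM i hi j hj) (h1 ▸ Dvd.dvd.mul_right hd1 _)
    (h2 ▸ Dvd.dvd.mul_right hd2 _)

theorem index_mul {J : List (Fin l)} {N P : ℕ} (h1 : PCard D l M K h.ty J N)
    (hS : ∃ b, Nat.card ↥(D.group K) = 2 ^ b * P) (hP : ¬ 2 ∣ P) :
    (PJ M.toCoxeterSystem h.ty.isCartan (TT D K) (XX D l K) {j | j ∈ J}).index * N = P := by
  have := charP_two h.card
  have h2 := index_split h.ty K (r := 2) (f := 1) Nat.prime_two one_ne_zero h.card M.toCoxeterSystem
    (J := {j | j ∈ J}) (d := 1) (N := N) (P := P) (by decide) ?_ ?_ hP h1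
  · simpa using h2
  · have h3 : Nat.card (TT D K) = 1 := by rw [h.tor, Subgroup.card_bot]
    rw [Nat.card_congr (Subgroup.subgroupOfEquivOfLe (Elts.diagonal_le_group h.ty.inList K)).toEquiv] at h3
    rw [h3]
    simp
  · obtain ⟨b, hb⟩ := hS
    exact ⟨b, by rw [one_mul, hb]⟩

/-- **A parabolic subgroup of index prime to `p`.** -/
theorem row {p : ℕ} [hp : Fact p.Prime] (hp2 : p ≠ 2) {J : List (Fin l)} {N P m : ℕ}
    (h1 : PCard D l M K h.ty J N) (hk : ∃ k, k ∉ J) (hS : ∃ b, Nat.card ↥(D.group K) = 2 ^ b * P)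
    (hP : ¬ 2 ∣ P) (hN : 0 < N) (hm : P = m * N) (hpm : ¬ p ∣ m) : Row p ↥(D.group K) := by
  have := finite_W h.ty M.toCoxeterSystem
  have := h.simple
  have h22 : Fact (Nat.Prime 2) := ⟨Nat.prime_two⟩
  refine row_of_index (r := 2) hp2 h.filt h.nonab hp2 (isPGroup_VJ h.rgdK {j | j ∈ J}) (VJ_ne_bot h.rgdK hk)
    (P := PJ M.toCoxeterSystem h.ty.isCartan (TT D K) (XX D l K) {j | j ∈ J}) (PJ_le_normalizer_VJ h.rgdK _) ?_
  have h3 := h.index_mul h1 hS hP
  rw [hm] at h3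
  rwa [Nat.eq_of_mul_eq_mul_right hN h3]

end Ex2

end Cfsg.Agent.H134.StrP
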