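import Cfsg.Agent.H818.StrP.Opp
import Cfsg.Agent.H818.StrP.Row
import Cfsg.Agent.H35.ExcIdx
import Cfsg.Agent.Nodes.Block
import Cfsg.Agent.Tits.ExtAux
import Cfsg.Agent.ETable.Exc

/-!
# Strongly `p`-embedded subgroups: two commuting Levi factors, groups over `F₂` (hub H9, helper134)

`R` a root group datum with trivial torus (characteristic two, `q = 2`):
* `comm_LJ` : Levi factors of orthogonal sets of nodes commute;
* `noSP_of_two` : `p ∣ |P_{J₁}|`, `p ∣ |P_{J₂}|`, `J₁ ⟂ J₂`, `J₁ ∪ J₂ ≠ I` imply that there is no strongly `p`-embedded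
  subgroup;
* `row_of_index` : a parabolic subgroup of index prime to `p` gives `Row p`.
-/

set_option autoImplicit false
set_option linter.unusedSectionVars false

namespace Cfsg.Agent.H134.StrP

open Cfsg CoxeterSystem Cfsg.Agent.ChevalleyStructure.CoxeterGeom Cfsg.Agent.Tits.Roots Cfsg.Agent.Tits.Core
  Cfsg.Agent.Tits.RootComb Cfsg.Agent.Tits.Exchange Cfsg.Agent.Nodes.Reps Cfsg.Agent.Nodes.BNOf
  Cfsg.Agent.Nodes.StabComb Cfsg.Agent.Nodes.Bruhat Cfsg.Agent.Nodes.OppDec Cfsg.Agent.Nodes.LeviDec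
  Cfsg.Agent.KFacts.RgdPar Cfsg.Agent.KFacts.RgdCharP Cfsg.Agent.KFacts.RgdFilt Cfsg.Agent.H818.StrP
open scoped commutatorElement

section Gen

variable {I W Y : Type*} [Fintype I] [DecidableEq I] [Group W] [Group Y] {M : CoxeterMatrix I}
  {cs : CoxeterSystem M W} {A : I → I → ℤ} {h : IsCartan M A} {r : ℕ} {T : Subgroup Y} {n : I → Y}
  {X : (I → ℤ) → Subgroup Y}

variable (R : RGD cs h r T n X)

include R

/-- the order of a parabolic subgroup -/
theorem card_PJ_eq [Finite W] [Finite Y] (J : Set I) :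
    Nat.card (PJ cs h T X J) = Nat.card (LJ cs h T X J) * Nat.card (VJ cs h X J) := by
  have h6 : Disjoint (LJ cs h T X J) (VJ cs h X J) := disjoint_iff.2 (LJ_inf_VJ R J)
  have h7 : Subgroup.IsComplement' ((LJ cs h T X J).subgroupOf (PJ cs h T X J))
      ((VJ cs h X J).subgroupOf (PJ cs h T X J)) := by
    refine Subgroup.isComplement'_of_disjoint_and_mul_eq_univ ?_ ?_
    · rw [disjoint_iff, eq_bot_iff]
      intro y hy
      have : (y : Y) ∈ LJ cs h T X J ⊓ VJ cs h X J := ⟨hy.1, hy.2⟩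
      rw [LJ_inf_VJ R J] at this
      exact Subgroup.mem_bot.2 (Subtype.ext (Subgroup.mem_bot.1 this))
    · rw [Set.eq_univ_iff_forall]
      intro y
      obtain ⟨a, ha, v, hv, e⟩ := (mem_PJ R).1 y.2
      exact ⟨⟨a, LJ_le_PJ ha⟩, ha, ⟨v, VJ_le_PJ hv⟩, hv, Subtype.ext e.symm⟩
  have h8 := h7.card_mul_card
  rw [Nat.card_congr (Subgroup.subgroupOfEquivOfLe LJ_le_PJ).toEquiv,
    Nat.card_congr (Subgroup.subgroupOfEquivOfLe VJ_le_PJ).toEquiv] at h8
  exact h8.symm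

theorem dvd_LJ [Finite W] [Finite Y] {p : ℕ} [hp : Fact p.Prime] [hr : Fact r.Prime] (hpr : p ≠ r) {J : Set I}
    (hd : p ∣ Nat.card (PJ cs h T X J)) : p ∣ Nat.card (LJ cs h T X J) := by
  rw [card_PJ_eq R] at hd
  rcases hp.out.dvd_mul.1 hd with h1 | h1
  · exact h1
  · exfalso
    obtain ⟨m, hm⟩ := IsPGroup.iff_card.1 (isPGroup_VJ R J)
    rw [hm] at h1
    exact hpr ((Nat.prime_dvd_prime_iff_eq hp.out hr.out).1 (hp.out.dvd_of_dvd_pow h1))

/-- **Levi factors of orthogonal sets of nodes commute** if the torus is trivial. -/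
theorem comm_LJ [Finite W] (hT : T = ⊥) {J₁ J₂ : Set I} (hM : ∀ i ∈ J₁, ∀ j ∈ J₂, M i j = 2) {x y : Y}
    (hx : x ∈ LJ cs h T X J₁) (hy : y ∈ LJ cs h T X J₂) : x * y = y * x := by
  have hdis : ∀ k, k ∈ J₁ → k ∈ J₂ → False := fun k h1 h2 => by
    have := hM k h1 k h2
    rw [M.diagonal] at this
    omega
  let hfW : Fintype W := Fintype.ofFinite W
  have hS : Cfsg.Agent.Nodes.Block.Sep M J₁ (J₁ ∪ J₂) :=
    ⟨Set.subset_union_left, fun a ha b hb hb' => hM a ha b (hb.resolve_left hb')⟩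
  have key : ∀ a ∈ RootsJ cs h J₁, ∀ b ∈ RootsJ cs h J₂, ∀ u ∈ X a, ∀ v ∈ X b, u * v = v * u := by
    intro a ha b hb u hu v hv
    obtain ⟨k, hk⟩ : ∃ k, a k ≠ 0 := by
      by_contra hcon
      push Not at hcon
      exact ha.1.ne_zero (funext hcon)
    have hk1 : k ∈ J₁ := by
      by_contra hcon
      exact hk (ha.2 k hcon)
    obtain ⟨j, hj⟩ : ∃ k, b k ≠ 0 := by
      by_contra hcon
      push Not at hcon
      exact hb.1.ne_zero (funext hcon)
    have hj1 : j ∈ J₂ := by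
      by_contra hcon
      exact hj (hb.2 j hcon)
    have hbk : b k = 0 := hb.2 k fun h1 => hdis k hk1 h1
    have haj : a j = 0 := ha.2 j fun h1 => hdis j h1 hj1
    have hne : a ≠ b := fun e => hk (by rw [e, hbk])
    have hne' : a ≠ -b := fun e => hk (by rw [e, Pi.neg_apply, hbk, neg_zero])
    have h1 := R.comm a b ha.1 hb.1 hne hne' u hu v hv
    have h2 : btw cs h X a b = ⊥ := by
      rw [eq_bot_iff]
      unfold Cfsg.Agent.Nodes.Reps.btw
      refine iSup_le ?_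
      rintro ⟨z, hz⟩
      exfalso
      obtain ⟨hzr, m, α, β, hm, hα, hβ, e⟩ := hz
      have hzJ : z ∈ RootsJ cs h (J₁ ∪ J₂) := by
        refine ⟨hzr, fun i hi => ?_⟩
        have h3 := congrFun e i
        simp only [Pi.smul_apply, Pi.add_apply, smul_eq_mul] at h3
        rw [ha.2 i fun h4 => hi (Or.inl h4), hb.2 i fun h4 => hi (Or.inr h4)] at h3
        simp only [mul_zero, add_zero] at h3
        rcases mul_eq_zero.1 h3 with h4 | h4
        · omega
        · exact h4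
      have h3 := congrFun e k
      have h4 := congrFun e j
      simp only [Pi.smul_apply, Pi.add_apply, smul_eq_mul] at h3 h4
      rw [hbk] at h3
      rw [haj] at h4
      rcases hS.mem_or hzJ with h5 | h5
      · have h6 : z j = 0 := h5.2 j fun h7 => hdis j h7 hj1
        rw [h6] at h4
        simp only [mul_zero, zero_add] at h4
        rcases mul_eq_zero.1 h4.symm with h7 | h7
        · omega
        · exact hj h7
      · have h6 : z k = 0 := h5.2 k fun h7 => h7.2 hk1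
        rw [h6] at h3
        simp only [mul_zero, add_zero] at h3
        rcases mul_eq_zero.1 h3.symm with h7 | h7
        · omega
        · exact hk h7
    rw [h2, Subgroup.mem_bot, commutatorElement_eq_one_iff_mul_comm] at h1
    exact h1
  have hL : ∀ J : Set I, LJ cs h T X J = RGD.Sup X (RootsJ cs h J) := by
    intro J
    unfold LJ
    rw [hT, bot_sup_eq]
  rw [hL] at hx hy
  have h1 : RGD.Sup X (RootsJ cs h J₁) ≤ Subgroup.centralizer (RGD.Sup X (RootsJ cs h J₂) : Set Y) := by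
    refine RGD.Sup_le fun a ha => ?_
    rw [Subgroup.le_centralizer_iff]
    refine RGD.Sup_le fun b hb => ?_
    intro v hv
    rw [Subgroup.mem_centralizer_iff]
    intro u hu
    exact key a ha b hb u hu v hv
  exact ((Subgroup.mem_centralizer_iff.1 (h1 hx)) y hy).symm

/-- orthogonal Levi factors meet in `B` -/
theorem mem_B_of_mem [Finite W] (hinj : Function.Injective cs.simple) {J₁ J₂ : Set I}
    (hd : ∀ k, k ∈ J₁ → k ∈ J₂ → False) {x : Y}
    (hx : x ∈ LJ cs h T X J₁) (hy : x ∈ LJ cs h T X J₂) : x ∈ RGD.B cs h T X := by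
  have _ := Fintype.ofFinite W
  obtain ⟨w, hw, hc⟩ := (mem_PJ_iff_cell R).1 (LJ_le_PJ hx)
  have hw' := (cell_mem_PJ_iff R hc).1 (LJ_le_PJ hy)
  have h1 := Cfsg.Agent.Tits.Ext.WJ_inter hinj hw hw'
  have h2 : J₁ ∩ J₂ = (∅ : Set I) := by
    ext k
    exact ⟨fun h3 => (hd k h3.1 h3.2).elim, fun h3 => h3.elim⟩
  rw [h2] at h1
  have h3 := (mem_PJ_iff_cell R (J := (∅ : Set I))).2 ⟨w, h1, hc⟩
  rwa [Cfsg.Agent.H35.Poin.PJ_empty] at h3

theorem VJ_ne_bot {J : Set I} (hJ : ∃ k, k ∉ J) : VJ cs h X J ≠ ⊥ := by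
  obtain ⟨k, hk⟩ := hJ
  obtain ⟨u, hu, hu1⟩ := exists_ne_one R k
  intro h1
  have h2 : X (sr k) ≤ VJ cs h X J :=
    RGD.le_Sup ⟨isRoot_sr cs h k, sr_nonneg k, k, hk, by rw [sr_self]; exact one_pos⟩
  rw [h1] at h2
  exact hu1 (Subgroup.mem_bot.1 (h2 hu))

/-- `B` is an `r`-group if the torus is trivial -/
theorem isPGroup_B (hT : T = ⊥) [Finite W] : IsPGroup r (RGD.B cs h T X) := by
  have h1 := R.isPGroup_Upos
  have h2 : RGD.B cs h T X = RGD.Sup X (RGD.Pos cs h) := by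
    unfold RGD.B
    rw [hT, bot_sup_eq]
  rw [h2]
  exact h1

/-- **Two commuting Levi factors.** -/
theorem exists_elem [Finite W] [Finite Y] {p : ℕ} [hp : Fact p.Prime] [hr : Fact r.Prime] (hpr : p ≠ r)
    (hT : T = ⊥) (hinj : Function.Injective cs.simple) {J₁ J₂ J : Set I} (h1 : J₁ ⊆ J) (h2 : J₂ ⊆ J)
    (hM : ∀ i ∈ J₁, ∀ j ∈ J₂, M i j = 2) (hp1 : p ∣ Nat.card (PJ cs h T X J₁)) (hp2 : p ∣ Nat.card (PJ cs h T X J₂)) :
    ∃ E : Subgroup Y, IsElementaryAbelian p E ∧ p ^ 2 ≤ Nat.card E ∧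
      E ≤ Subgroup.normalizer (VJ cs h X J : Set Y) := by
  have hdis : ∀ k, k ∈ J₁ → k ∈ J₂ → False := fun k h1 h2 => by
    have := hM k h1 k h2
    rw [M.diagonal] at this
    omega
  obtain ⟨⟨x, hx⟩, hxo⟩ := exists_prime_orderOf_dvd_card' (G := ↥(LJ cs h T X J₁)) p (dvd_LJ R hpr hp1)
  obtain ⟨⟨y, hy⟩, hyo⟩ := exists_prime_orderOf_dvd_card' (G := ↥(LJ cs h T X J₂)) p (dvd_LJ R hpr hp2)
  rw [Subgroup.orderOf_mk] at hxo hyo
  have hcomm := comm_LJ R hT hM hx hy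
  have hLJ : ∀ K : Set I, K ⊆ J → LJ cs h T X K ≤ Subgroup.normalizer (VJ cs h X J : Set Y) := fun K hK => by
    refine le_trans ?_ (LJ_le_normalizer_VJ R J)
    unfold LJ
    refine sup_le_sup le_rfl (RGD.Sup_mono fun z hz => ⟨hz.1, fun k hk => hz.2 k fun h3 => hk (hK h3)⟩)
  -- independence
  have hind : x ∉ Subgroup.zpowers y := by
    intro hxy
    have h3 : x ∈ LJ cs h T X J₂ := (Subgroup.zpowers_le.2 hy) hxy
    have h4 := mem_B_of_mem R hinj hdis hx h3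
    obtain ⟨m, hm⟩ := (isPGroup_B R hT) ⟨x, h4⟩
    have h5 : x ^ r ^ m = 1 := congrArg Subtype.val hm
    have h6 := orderOf_dvd_of_pow_eq_one h5
    rw [hxo] at h6
    exact hpr ((Nat.prime_dvd_prime_iff_eq hp.out hr.out).1 (hp.out.dvd_of_dvd_pow h6))
  have hE := Cfsg.Agent.ETable.Exc.El.snoc (p := p) (k := 1) (G := Y) (T := VJ cs h X J) (E := Subgroup.zpowers y)
    ⟨by
      rintro _ ⟨a, rfl⟩ _ ⟨b, rfl⟩
      exact (zpow_mul_comm y a b),
     by
      rintro _ ⟨a, rfl⟩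
      show (y ^ a) ^ p = 1
      rw [← zpow_natCast, zpow_comm, zpow_natCast, ← hyo, pow_orderOf_eq_one, one_zpow],
     by rw [Nat.card_zpowers, hyo, pow_one],
     by
      rw [Subgroup.zpowers_le]
      exact hLJ J₂ h2 hy⟩ hp.out (x := x) (by rw [← hxo, pow_orderOf_eq_one]) (hLJ J₁ h1 hx) (by
      rintro _ ⟨a, rfl⟩
      exact ((show Commute x y from hcomm).zpow_right a).eq.symm) hind
  exact ⟨_, ⟨⟨⟨fun a b => Subtype.ext (hE.comm a a.2 b b.2)⟩⟩, fun a ha => hE.exp a ha⟩, hE.card, hE.norm⟩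

end Gen

section Simple

variable {Y : Type*} [Group Y] [Finite Y] [IsSimpleGroup Y]

theorem noSP_of_two {I W : Type*} [Fintype I] [DecidableEq I] [Group W] {M : CoxeterMatrix I}
    {cs : CoxeterSystem M W} {A : I → I → ℤ} {h : IsCartan M A} {r : ℕ} {T : Subgroup Y} {n : I → Y}
    {X : (I → ℤ) → Subgroup Y} (R : RGD cs h r T n X) [Finite W] {p : ℕ} [hp : Fact p.Prime] [hr : Fact r.Prime]
    (hG : HasFilt r Y) (hc : ∃ a b : Y, a * b ≠ b * a) (hpr : p ≠ r)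
    (hT : T = ⊥) (hinj : Function.Injective cs.simple) {J₁ J₂ J : Set I} (h1 : J₁ ⊆ J) (h2 : J₂ ⊆ J)
    (hJ : ∃ k, k ∉ J) (hM : ∀ i ∈ J₁, ∀ j ∈ J₂, M i j = 2)
    (hp1 : p ∣ Nat.card (PJ cs h T X J₁)) (hp2 : p ∣ Nat.card (PJ cs h T X J₂)) : NoSP p Y := by
  obtain ⟨E, hE, hE2, hEn⟩ := exists_elem R hpr hT hinj h1 h2 hM hp1 hp2
  exact Opp.noSP_of_local hG hc hpr (isPGroup_VJ R J) (VJ_ne_bot R hJ) hE hE2 hEn

/-- **A local subgroup of index prime to `p`.** -/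
theorem row_of_index {r p : ℕ} [hp : Fact p.Prime] [hr : Fact r.Prime] (hp2 : p ≠ 2)
    (hG : HasFilt r Y) (hc : ∃ a b : Y, a * b ≠ b * a) (hpr : p ≠ r) {K : Subgroup Y} (hK : IsPGroup r K)
    (hK1 : K ≠ ⊥) {P : Subgroup Y} (hP : P ≤ Subgroup.normalizer (K : Set Y)) (hidx : ¬ p ∣ P.index) : Row p Y := by
  refine Row.of_elem hp2 fun E hE hE2 => ?_
  have hEp : IsPGroup p E := fun a => ⟨1, Subtype.ext (by rw [pow_one]; exact hE.2 a.1 a.2)⟩
  obtain ⟨y, hy⟩ := Opp.exists_conj_le_of_index P hidx hEp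
  refine Opp.noSP_of_local hG hc hpr hK hK1 (E := E.map (MulAut.conj y).toMonoidHom) ⟨?_, ?_⟩ ?_ (hy.trans hP)
  · have := hE.1
    exact Subgroup.map_isMulCommutative E (MulAut.conj y).toMonoidHom
  · rintro _ ⟨x, hx, rfl⟩
    rw [← map_pow, hE.2 x hx, map_one]
  · rw [Nat.card_congr (Subgroup.equivMapOfInjective E _ (MulAut.conj y).injective).toEquiv.symm, hE2]

end Simple

end Cfsg.Agent.H134.StrP
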